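import Cfsg.Agent.Lib.Sporadic.FiTransfer.Thompson.Defs

/-!
The squares at seven places of the list avoid the transpositions.
-/

set_option autoImplicit false
set_option maxRecDepth 100000
set_option maxHeartbeats 0

namespace CfsgLib.Sporadic.FiTransfer.Thompson

theorem sqAvoidC_ok : (List.range' 14 7).all sqAvoidAt = true := by decide +kernel

end CfsgLib.Sporadic.FiTransfer.Thompson
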