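import Cfsg.Agent.Lib.Sporadic.FiTransfer.Thompson.AvoidA
import Cfsg.Agent.Lib.Sporadic.FiTransfer.Thompson.AvoidB
import Cfsg.Agent.Lib.Sporadic.FiTransfer.Thompson.AvoidC
import Cfsg.Agent.Lib.Sporadic.FiTransfer.Thompson.AvoidD
import Cfsg.Agent.Lib.Sporadic.FiTransfer.Thompson.AvoidE

/-!
The checks on the squares hold.
-/

set_option autoImplicit false
set_option maxRecDepth 100000
set_option maxHeartbeats 0

namespace CfsgLib.Sporadic.FiTransfer.Thompson

theorem sqVal_ok : sqValK = true := by decide +kernel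
theorem sqAvoid_ok : sqAvoidK = true := by
  have h : List.range 35 = List.range' 0 7 ++ List.range' 7 7 ++ List.range' 14 7 ++
      List.range' 21 7 ++ List.range' 28 7 := by decide
  rw [sqAvoidK, h]
  simp only [List.all_append, sqAvoidA_ok, sqAvoidB_ok, sqAvoidC_ok, sqAvoidD_ok, sqAvoidE_ok,
    Bool.and_self]
theorem triple_ok : tripleK = true := by decide +kernel
theorem invLen_ok : CosetCert.Fi23P.Two.invList.length = 35 := by decide +kernel

end CfsgLib.Sporadic.FiTransfer.Thompson
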