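import Cfsg.Agent.Lib.Sporadic.FiTransfer.Model
import Cfsg.Agent.Lib.ThreeTransp.TypeTwentyFour.Model

/-!
# The class of Fi22 as the image of the neighbours of a transposition of Fi23
-/

set_option autoImplicit false
set_option maxRecDepth 100000

open Cfsg.Spor

namespace CfsgLib.Sporadic.FiTransfer.Thompson

open CosetCert CosetCert.Fi23P
open Fi23Data (table forestH)
open FischerTransitivity

attribute [local irreducible] PTab.img Forest.cls

theorem gen_mem : coding.gen 0 ∈ sub lH := Subgroup.subset_closure ⟨0, by decide, rfl⟩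

theorem toFi22_gen : toFi22 ⟨coding.gen 0, gen_mem⟩ = CosetCert.FiP.tr := by
  have h0 : code (incl Fi22.Gen.a) = 0 := by decide
  apply ρ_injective
  have h1 : ρ (PresentedGroup.of Fi22.Gen.a) = restrict (gP Fi22.Gen.a) := PresentedGroup.toGroup.of restrict_rel
  rw [show CosetCert.FiP.tr = PresentedGroup.of Fi22.Gen.a from rfl, h1]
  unfold toFi22
  simp only [MonoidHom.comp_apply, MulEquiv.coe_toMonoidHom]
  rw [MonoidHom.apply_ofInjective_symm]
  show restrict _ = restrict _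
  congr 1

theorem cls_gen : forestH.cls (Two.gpt 0 : ℕ) = 1 := by
  rw [Two.gpt_val (by norm_num)]
  decide +kernel

theorem gen_nb : coding.gen 0 ∈ Nb FiTransfer23.classTr tr := by
  rw [ThreeTransp.TypeTwentyFour.Model.nb_eq, Two.gen_eq_dp 0 (by norm_num)]
  exact ⟨_, by simp only [Finset.mem_coe, Forest.mem_classSet]; exact cls_gen, rfl⟩

/-- The class of Fi22 is the image of the neighbours. -/
theorem mem_class_iff (y : Fi22) :
    y ∈ classTr ↔ ∃ x ∈ Nb FiTransfer23.classTr tr, ∃ hx : x ∈ sub lH, toFi22 ⟨x, hx⟩ = y := by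
  constructor
  · intro hy
    obtain ⟨g, rfl⟩ := isConj_iff.1 hy
    obtain ⟨k, rfl⟩ := toFi22_surjective g
    refine ⟨(k : Fi23) * coding.gen 0 * (k : Fi23)⁻¹, ?_, mul_mem (mul_mem k.2 gen_mem) (inv_mem k.2), ?_⟩
    · obtain ⟨h1, h2, h3⟩ := gen_nb
      have hk : (k : Fi23) * tr * (k : Fi23)⁻¹ = tr := by rw [tr_comm k.2, mul_inv_cancel_right]
      refine ⟨FiTransfer23.classTr_conj h1, fun e => h2 ?_, ?_⟩
      · rw [← hk] at e
        exact mul_left_cancel (mul_right_cancel e)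
      · rw [← hk]
        exact (Commute.conj_iff _).2 h3
    · rw [← toFi22_gen, ← map_inv, ← map_mul, ← map_mul]
      rfl
  · rintro ⟨x, hx, hxm, rfl⟩
    rw [ThreeTransp.TypeTwentyFour.Model.nb_eq] at hx
    obtain ⟨u, hu, rfl⟩ := hx
    simp only [Finset.mem_coe, Forest.mem_classSet] at hu
    obtain ⟨k, hk, hku⟩ := exists_sub_of_class (u := u) (v := Two.gpt 0) (hu.trans cls_gen.symm)
    have e : (⟨Two.dp u, hxm⟩ : sub lH) = ⟨k, hk⟩ * ⟨coding.gen 0, gen_mem⟩ * ⟨k, hk⟩⁻¹ := by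
      refine Subtype.ext ?_
      show Two.dp u = k * coding.gen 0 * k⁻¹
      rw [Two.gen_eq_dp 0 (by norm_num), Two.conj_dp, hku]
    rw [e, map_mul, map_mul, map_inv, toFi22_gen]
    exact isConj_iff.2 ⟨toFi22 ⟨k, hk⟩, rfl⟩

end CfsgLib.Sporadic.FiTransfer.Thompson
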