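import Cfsg.Agent.Lib.Sporadic.Fi23SylowTwo.Defs
import Cfsg.Agent.Lib.Sporadic.Fi23SylowTwo.Points

/-!
# Checks on the squares in a Sylow 2-subgroup of Fi23

No square in the listed Sylow 2-subgroup is one of the twenty-three transpositions.
-/

set_option autoImplicit false

namespace CfsgLib.Sporadic.FiTransfer.Thompson

open CosetCert.Fi23P

/-- The coordinates of the squares of the listed involutory permutations' elements. -/
def sqVec : List ℕ := [0, 0, 1285, 0, 0, 0, 0, 446, 446, 231, 1506, 0, 331, 125, 310, 0, 331, 136, 451, 0,
  1610, 382, 1985, 1506, 0, 789, 1865, 0, 728, 0, 319, 1209, 357, 755, 1071]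

/-- The squares have the listed coordinates. -/
noncomputable def sqValK : Bool :=
  (List.range 35).all fun s =>
    Two.sameK (Two.upWord (Two.invList.getD s 0) ++ Two.upWord (Two.invList.getD s 0))
      (Two.vecWord (sqVec.getD s 0))

/-- No square at one place of the list is a transposition. -/
noncomputable def sqAvoidAt (s : ℕ) : Bool :=
  (List.range 2048).all fun v =>
    !(Two.coords.contains
      (Nat.xor (Nat.xor v (Two.actV (Two.invList.getD s 0) v)) (sqVec.getD s 0)))

/-- No square is a transposition. -/
noncomputable def sqAvoidK : Bool := (List.range 35).all sqAvoidAt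

/-- No two transpositions differ by a transposition. -/
def tripleK : Bool :=
  (List.range 23).all fun i => (List.range 23).all fun j =>
    !(Two.coords.contains (Nat.xor (Two.coords.getD i 0) (Two.coords.getD j 0)))

end CfsgLib.Sporadic.FiTransfer.Thompson
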