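import Cfsg.Agent.Lib.Sporadic.FiTransfer.Thompson.Square
import Cfsg.Agent.Lib.Sporadic.FiTransfer.Thompson.Class

/-!
# The Sylow 2-subgroups of Fi22

The preimage in Fi23 of an elementary abelian subgroup is elementary abelian, as no transposition of Fi23
is a square; so the twenty-two transpositions of a Sylow 2-subgroup generate its only elementary abelian
subgroup of largest order.
-/

set_option autoImplicit false
set_option maxRecDepth 100000

open Cfsg.Spor

namespace CfsgLib.Sporadic.FiTransfer.Thompson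

open CosetCert CosetCert.Fi23P
open FischerTransitivity

theorem tr_class : tr ∈ FiTransfer23.classTr := ThreeTransp.TypeTwentyFour.Model.tr_mem_class

theorem ker_cases {k : sub lH} (hk : toFi22 k = 1) : k = 1 ∨ (k : Fi23) = tr := by
  rcases eq_or_ne k 1 with h | h
  · exact Or.inl h
  · obtain ⟨a, -, hau⟩ := (Nat.card_eq_two_iff' (1 : toFi22.ker)).1 card_ker_toFi22
    have e1 := hau ⟨k, hk⟩ fun e => h (congrArg Subtype.val e)
    have e2 := hau ⟨_, tr_mem_ker⟩ fun e =>
      tr_ne_one (congrArg (fun z : toFi22.ker => ((z : sub lH) : Fi23)) e)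
    exact Or.inr (congrArg (fun z : toFi22.ker => ((z : sub lH) : Fi23)) (e1.trans e2.symm))

/-- The preimage in Fi23. -/
noncomputable def up (A : Subgroup Fi22) : Subgroup Fi23 := (A.comap toFi22).map (sub lH).subtype

theorem mem_up {A : Subgroup Fi22} {x : Fi23} : x ∈ up A ↔ ∃ hx : x ∈ sub lH, toFi22 ⟨x, hx⟩ ∈ A := by
  simp only [up, Subgroup.mem_map, Subgroup.mem_comap, Subgroup.coe_subtype]
  exact ⟨fun ⟨⟨y, hy⟩, h, e⟩ => e ▸ ⟨hy, h⟩, fun ⟨hx, h⟩ => ⟨⟨x, hx⟩, h, rfl⟩⟩

theorem tr_mem_up (A : Subgroup Fi22) : tr ∈ up A :=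
  mem_up.2 ⟨tr_mem, (MonoidHom.mem_ker.1 tr_mem_ker).symm ▸ one_mem A⟩

theorem up_mono {A B : Subgroup Fi22} (h : A ≤ B) : up A ≤ up B :=
  Subgroup.map_mono (Subgroup.comap_mono h)

theorem card_up (A : Subgroup Fi22) : Nat.card (up A) = 2 * Nat.card A := by
  rw [up, Subgroup.card_map_of_injective (sub lH).subtype_injective]
  have h1 : Nat.card (A.comap toFi22) * A.index = Nat.card (sub lH) := by
    rw [← Subgroup.index_comap_of_surjective A toFi22_surjective]
    exact (A.comap toFi22).card_mul_index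
  have h2 : Nat.card (sub lH) = 2 * Nat.card Fi22 := by
    rw [← toFi22.ker.card_mul_index, card_ker_toFi22, Subgroup.index_ker,
      MonoidHom.range_eq_top.2 toFi22_surjective, Subgroup.card_top]
  rw [h2, ← A.card_mul_index, ← mul_assoc] at h1
  haveI : Finite Fi22 := CosetCert.FiP.finite
  exact Nat.eq_of_mul_eq_mul_right (Nat.pos_of_ne_zero A.index_ne_zero_of_finite) h1

theorem up_elementary {A : Subgroup Fi22} (hA : Cfsg.IsElementaryAbelian 2 A) :
    Cfsg.IsElementaryAbelian 2 (up A) := by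
  have hsq : ∀ x ∈ up A, x * x = 1 := by
    intro x hx
    obtain ⟨hm, hxA⟩ := mem_up.1 hx
    have h1 : toFi22 (⟨x, hm⟩ * ⟨x, hm⟩) = 1 := by
      rw [map_mul, ← pow_two]
      exact hA.2 _ hxA
    rcases ker_cases h1 with h | h
    · exact congrArg Subtype.val h
    · exact absurd ((show x * x = tr from h) ▸ tr_class) (not_square x)
  refine ⟨⟨⟨fun a b => Subtype.ext ?_⟩⟩, fun x hx => by rw [pow_two]; exact hsq x hx⟩
  show a.1 * b.1 = b.1 * a.1
  have hab := hsq _ (mul_mem a.2 b.2)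
  calc a.1 * b.1 = (a.1 * b.1)⁻¹ := (inv_eq_of_mul_eq_one_right hab).symm
    _ = b.1 * a.1 := by
      rw [mul_inv_rev, inv_eq_of_mul_eq_one_right (hsq _ a.2), inv_eq_of_mul_eq_one_right (hsq _ b.2)]

/-- A Sylow 2-subgroup of Fi22 is the image of one of Fi23. -/
theorem exists_up (T : Sylow 2 Fi22) : ∃ P : Sylow 2 Fi23, (P : Subgroup Fi23) = up T := by
  haveI := CosetCert.Fi23P.finite
  haveI : Finite Fi22 := CosetCert.FiP.finite
  haveI : Fact (Nat.Prime 2) := ⟨Nat.prime_two⟩
  have hT : Nat.card (T : Subgroup Fi22) = 2 ^ 17 := by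
    rw [T.card_eq_multiplicity, CosetCert.FiP.card_eq.1]
    congr 1
    rw [show (64561751654400 : ℕ) = 2 ^ 17 * 492567075 by norm_num,
      Nat.factorization_mul (by norm_num) (by norm_num)]
    simp only [Finsupp.coe_add, Pi.add_apply, Nat.factorization_pow_self Nat.prime_two]
    rw [Nat.factorization_eq_zero_of_not_dvd (by norm_num)]
  have hc : Nat.card (up T) = 2 ^ 18 := by rw [card_up, hT]; norm_num
  have hidx : ¬ 2 ∣ (up (T : Subgroup Fi22)).index := by
    have h := (up (T : Subgroup Fi22)).card_mul_index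
    rw [hc, card_eq.1] at h
    have h' : (up (T : Subgroup Fi22)).index = 4089470473293004800 / 2 ^ 18 := by
      rw [← h, Nat.mul_div_cancel_left _ (by norm_num)]
    rw [h']
    norm_num
  exact ⟨(IsPGroup.of_card hc).toSylow hidx, rfl⟩

/-- The transpositions of a Sylow 2-subgroup of Fi22. -/
theorem sylow_facts (T : Sylow 2 Fi22) :
    let S := classTr ∩ ((T : Subgroup Fi22) : Set Fi22)
    Cfsg.IsElementaryAbelian 2 (Subgroup.closure S) ∧ Nat.card (Subgroup.closure S) = 2 ^ 10 ∧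
      S.ncard = 22 ∧ ∀ A : Subgroup Fi22, A ≤ T → Cfsg.IsElementaryAbelian 2 A →
        Nat.card A ≤ 2 ^ 10 ∧ (Nat.card A = 2 ^ 10 → A = Subgroup.closure S) := by
  intro S
  haveI := CosetCert.Fi23P.finite
  haveI : Finite Fi22 := CosetCert.FiP.finite
  obtain ⟨P, hP⟩ := exists_up T
  set K := FiTransfer23.classTr ∩ ((P : Subgroup Fi23) : Set Fi23) with hK
  obtain ⟨hcard, hnum⟩ := sylow_frame P
  have h3 := FiTransfer23.isThreeTranspositionSet
  have hcomm : ∀ a ∈ K, ∀ b ∈ K, Commute a b := fun a ha b hb =>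
    ThreeTransp.SylowWidth.commute_of_two_group h3 P.isPGroup' ha.1 hb.1 ha.2 hb.2
  have htrK : tr ∈ K := ⟨tr_class, hP.symm ▸ tr_mem_up _⟩
  have hKm : ∀ x ∈ K, x ∈ sub lH := fun x hx => by
    rw [← centralizer_tr]
    exact Subgroup.mem_centralizer_singleton_iff.2 (hcomm x hx tr htrK).eq
  have hKS : ∀ x (hx : x ∈ sub lH), x ∈ K → x ≠ tr → toFi22 ⟨x, hx⟩ ∈ S := by
    intro x hx hxK hne
    refine ⟨(mem_class_iff _).2 ⟨x, ⟨hxK.1, hne, hcomm tr htrK x hxK⟩, hx, rfl⟩, ?_⟩
    have h1 : x ∈ up (T : Subgroup Fi22) := hP ▸ hxK.2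
    obtain ⟨_, h2⟩ := mem_up.1 h1
    exact h2
  have hSK : ∀ y ∈ S, ∃ x ∈ K, ∃ hx : x ∈ sub lH, x ≠ tr ∧ toFi22 ⟨x, hx⟩ = y := by
    rintro y ⟨hy, hyT⟩
    obtain ⟨x, hx, hxm, rfl⟩ := (mem_class_iff _).1 hy
    exact ⟨x, ⟨hx.1, hP.symm ▸ mem_up.2 ⟨hxm, hyT⟩⟩, hxm, hx.2.1, rfl⟩
  have hup : up (Subgroup.closure S) = Subgroup.closure K := by
    refine le_antisymm (fun x hx => ?_) ((Subgroup.closure_le _).2 fun x hx => ?_)
    · obtain ⟨hxm, hxS⟩ := mem_up.1 hx
      suffices ∀ y ∈ Subgroup.closure S, ∀ (x : sub lH), toFi22 x = y → (x : Fi23) ∈ Subgroup.closure K from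
        this _ hxS ⟨x, hxm⟩ rfl
      intro y hy
      have hfix : ∀ (x x' : sub lH), toFi22 x = toFi22 x' → (x' : Fi23) ∈ Subgroup.closure K →
          (x : Fi23) ∈ Subgroup.closure K := by
        intro x x' e h
        rcases ker_cases (k := x * x'⁻¹) (by rw [map_mul, map_inv, e, mul_inv_cancel]) with h' | h'
        · rw [mul_inv_eq_one] at h'
          rwa [h']
        · rw [Subgroup.coe_mul, Subgroup.coe_inv, mul_inv_eq_iff_eq_mul] at h'
          rw [h']
          exact mul_mem (Subgroup.subset_closure htrK) h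
      induction hy using Subgroup.closure_induction with
      | mem z hz =>
        intro x e
        obtain ⟨x', hx', hxm', -, e'⟩ := hSK z hz
        exact hfix x ⟨x', hxm'⟩ (e.trans e'.symm) (Subgroup.subset_closure hx')
      | one => exact fun x e => hfix x 1 (e.trans (map_one _).symm) (one_mem _)
      | mul p q _ _ ihp ihq =>
        intro x e
        obtain ⟨xp, rfl⟩ := toFi22_surjective p
        obtain ⟨xq, rfl⟩ := toFi22_surjective q
        exact hfix x (xp * xq) (e.trans (map_mul _ _ _).symm) (mul_mem (ihp xp rfl) (ihq xq rfl))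
      | inv p _ ihp =>
        intro x e
        obtain ⟨xp, rfl⟩ := toFi22_surjective p
        exact hfix x xp⁻¹ (e.trans (map_inv _ _).symm) (inv_mem (ihp xp rfl))
    · refine mem_up.2 ⟨hKm x hx, ?_⟩
      rcases eq_or_ne x tr with rfl | hne
      · rw [show (⟨tr, hKm tr hx⟩ : sub lH) = ⟨tr, tr_mem⟩ from rfl, MonoidHom.mem_ker.1 tr_mem_ker]
        exact one_mem _
      · exact Subgroup.subset_closure (hKS x (hKm x hx) hx hne)
  have hScomm : ∀ a ∈ S, ∀ b ∈ S, Commute a b := by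
    intro a ha b hb
    obtain ⟨x, hx, hxm, -, rfl⟩ := hSK a ha
    obtain ⟨y, hy, hym, -, rfl⟩ := hSK b hb
    exact (show Commute (⟨x, hxm⟩ : sub lH) ⟨y, hym⟩ from Subtype.ext (hcomm x hx y hy).eq).map toFi22
  have hSsq : ∀ a ∈ S, a ^ 2 = 1 := by
    intro a ha
    obtain ⟨x, hx, hxm, -, rfl⟩ := hSK a ha
    rw [← map_pow, show (⟨x, hxm⟩ : sub lH) ^ 2 = 1 from Subtype.ext
      (show x ^ 2 = 1 by rw [← h3.1 x hx.1]; exact pow_orderOf_eq_one x), map_one]
  haveI := Subgroup.isMulCommutative_closure (k := S) fun a ha b hb => (hScomm a ha b hb).eq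
  have hel : Cfsg.IsElementaryAbelian 2 (Subgroup.closure S) := by
    refine ⟨inferInstance, fun a ha => ?_⟩
    induction ha using Subgroup.closure_induction with
    | mem z hz => exact hSsq z hz
    | one => exact one_pow 2
    | mul p q hp hq ihp ihq =>
      have : Commute p q := congrArg Subtype.val (mul_comm' (⟨p, hp⟩ : Subgroup.closure S) ⟨q, hq⟩)
      rw [this.mul_pow, ihp, ihq, one_mul]
    | inv p _ ihp => rw [inv_pow, ihp, inv_one]
  have hc10 : Nat.card (Subgroup.closure S) = 2 ^ 10 := by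
    have h := card_up (Subgroup.closure S)
    rw [hup, hcard] at h
    omega
  refine ⟨hel, hc10, ?_, fun A hA hEA => ?_⟩
  · have hbij : S.ncard = (K \ {tr}).ncard := by
      refine (Set.ncard_congr (fun x (hx : x ∈ K \ {tr}) => toFi22 ⟨x, hKm x hx.1⟩) ?_ ?_ ?_).symm
      · exact fun x hx => hKS x _ hx.1 hx.2
      · intro x y hx hy e
        rcases ker_cases (k := ⟨x, hKm x hx.1⟩ * ⟨y, hKm y hy.1⟩⁻¹)
            (by rw [map_mul, map_inv, e, mul_inv_cancel]) with h' | h'
        · exact congrArg Subtype.val (mul_inv_eq_one.1 h')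
        · rw [Subgroup.coe_mul, Subgroup.coe_inv, mul_inv_eq_iff_eq_mul] at h'
          exact absurd (h' ▸ hx.1.1 : tr * y ∈ FiTransfer23.classTr)
            (mul_not_mem tr_class hy.1.1 htrK.2 hy.1.2)
      · intro y hy
        obtain ⟨x, hx, hxm, hne, e⟩ := hSK y hy
        exact ⟨x, ⟨hx, hne⟩, e⟩
    rw [hbij, Set.ncard_sdiff_singleton_of_mem htrK, hnum]
  · obtain ⟨h1, h2⟩ := sylow_max P (A := up A) (hP ▸ up_mono hA) (up_elementary hEA)
    rw [card_up] at h1 h2
    refine ⟨by omega, fun he => ?_⟩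
    have h4 := h2 (by omega)
    rw [← hK, ← hup] at h4
    have hinj : ∀ B : Subgroup Fi22, ((up B).subgroupOf (sub lH)).map toFi22 = B := fun B => by
      rw [up, Subgroup.subgroupOf, Subgroup.comap_map_eq_self_of_injective (sub lH).subtype_injective,
        Subgroup.map_comap_eq_self_of_surjective toFi22_surjective]
    rw [← hinj A, h4, hinj]

end CfsgLib.Sporadic.FiTransfer.Thompson
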