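import Cfsg.Agent.Lib.Sporadic.FiTransfer.Thompson.Down

/-!
# The Thompson subgroup in a group with the model of Fi22

The statements on a Sylow 2-subgroup and on a Sylow 2-subgroup of the centralizer of a transposition.
-/

set_option autoImplicit false
set_option maxRecDepth 100000

open Cfsg.Spor

namespace CfsgLib.Sporadic.FiTransfer.Thompson

variable {G : Type*} [Group G]

/-- The largest elementary abelian subgroup, when there is only one, is the Thompson subgroup. -/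
theorem thompsonOf_eq {P E : Subgroup G} (hEP : E ≤ P) (hE : Cfsg.IsElementaryAbelian 2 E)
    (hmax : ∀ A : Subgroup G, A ≤ P → Cfsg.IsElementaryAbelian 2 A →
      Nat.card A ≤ Nat.card E ∧ (Nat.card A = Nat.card E → A = E)) :
    Cfsg.thompsonSubgroupOf 2 P = E := by
  have hsub : ∀ A : Subgroup G, A ≤ P → Cfsg.IsElementaryAbelian 2 A →
      Cfsg.IsElementaryAbelian 2 (A.subgroupOf P) := fun A _ hA =>
    ⟨⟨⟨fun a b => Subtype.ext (Subtype.ext (congrArg Subtype.val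
      (hA.1.is_comm.comm ⟨_, a.2⟩ ⟨_, b.2⟩) :))⟩⟩,
      fun a ha => Subtype.ext (hA.2 _ ha)⟩
  have hmap : ∀ B : Subgroup P, Cfsg.IsElementaryAbelian 2 B →
      Cfsg.IsElementaryAbelian 2 (B.map P.subtype) := fun B hB => by
    refine ⟨⟨⟨?_⟩⟩, ?_⟩
    · rintro ⟨_, x, hx, rfl⟩ ⟨_, y, hy, rfl⟩
      exact Subtype.ext (congrArg (fun z : B => ((z : P) : G)) (hB.1.is_comm.comm ⟨x, hx⟩ ⟨y, hy⟩) :)
    · rintro _ ⟨x, hx, rfl⟩
      rw [← map_pow, hB.2 x hx, map_one]
  have hcard : ∀ B : Subgroup P, Nat.card (B.map P.subtype) = Nat.card B := fun B =>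
    Subgroup.card_map_of_injective P.subtype_injective
  have hEsub : (E.subgroupOf P).map P.subtype = E := by
    rw [Subgroup.subgroupOf_map_subtype, inf_eq_left.2 hEP]
  have hmem : ∀ B, B ∈ Cfsg.maxElementaryAbelianSubgroups 2 P ↔ B = E.subgroupOf P := by
    intro B
    constructor
    · rintro ⟨hB, hBmax⟩
      obtain ⟨h1, h2⟩ := hmax _ (Subgroup.map_subtype_le B) (hmap B hB)
      have h3 := hBmax _ (hsub E hEP hE)
      rw [← hcard (E.subgroupOf P), hEsub, ← hcard B] at h3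
      refine Subgroup.map_injective P.subtype_injective ?_
      rw [hEsub]
      exact h2 (le_antisymm h1 h3)
    · rintro rfl
      refine ⟨hsub E hEP hE, fun B hB => ?_⟩
      rw [← hcard B, ← hcard (E.subgroupOf P), hEsub]
      exact (hmax _ (Subgroup.map_subtype_le B) (hmap B hB)).1
  rw [Cfsg.thompsonSubgroupOf, Cfsg.thompsonSubgroup, show Cfsg.maxElementaryAbelianSubgroups 2 P
    = {E.subgroupOf P} from Set.ext hmem, sSup_singleton, hEsub]

variable [Finite G] {D : Set G}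

theorem image_closure (e : G ≃* Fi22) (s : Set G) :
    (Subgroup.closure s).map e.toMonoidHom = Subgroup.closure (e '' s) := MonoidHom.map_closure _ _

/-- The facts in every Sylow 2-subgroup. -/
theorem model_sylow (h : ModelIso G D) (T : Sylow 2 G) :
    let S := D ∩ ((T : Subgroup G) : Set G)
    Cfsg.IsElementaryAbelian 2 (Subgroup.closure S) ∧ Nat.card (Subgroup.closure S) = 2 ^ 10 ∧
      S.ncard = 22 ∧ ∀ A : Subgroup G, A ≤ T → Cfsg.IsElementaryAbelian 2 A →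
        Nat.card A ≤ 2 ^ 10 ∧ (Nat.card A = 2 ^ 10 → A = Subgroup.closure S) := by
  intro S
  obtain ⟨e, he⟩ := h
  haveI : Finite Fi22 := CosetCert.FiP.finite
  haveI : Fact (Nat.Prime 2) := ⟨Nat.prime_two⟩
  set T' : Sylow 2 Fi22 := T.mapSurjective (f := e.toMonoidHom) e.surjective with hT'
  have hTc : (T' : Subgroup Fi22) = (T : Subgroup G).map e.toMonoidHom := Sylow.coe_mapSurjective e.surjective T
  obtain ⟨h1, h2, h3, h4⟩ := sylow_facts T'
  have hS : e '' S = classTr ∩ ((T' : Subgroup Fi22) : Set Fi22) := by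
    rw [Set.image_inter e.injective, he, hTc, Subgroup.coe_map]
    rfl
  rw [← hS] at h1 h2 h3 h4
  rw [← image_closure] at h1 h2 h4
  rw [Subgroup.card_map_of_injective e.injective] at h2
  rw [Set.ncard_image_of_injective _ e.injective] at h3
  have hel : ∀ A : Subgroup G, Cfsg.IsElementaryAbelian 2 A ↔ Cfsg.IsElementaryAbelian 2 (A.map e.toMonoidHom) := by
    intro A
    constructor
    · intro hA
      refine ⟨⟨⟨?_⟩⟩, ?_⟩
      · rintro ⟨_, x, hx, rfl⟩ ⟨_, y, hy, rfl⟩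
        exact Subtype.ext (by
          show e x * e y = e y * e x
          rw [← map_mul, ← map_mul]
          exact congrArg e (congrArg Subtype.val (hA.1.is_comm.comm ⟨x, hx⟩ ⟨y, hy⟩) :))
      · rintro _ ⟨x, hx, rfl⟩
        rw [← map_pow, hA.2 x hx, map_one]
    · intro hA
      refine ⟨⟨⟨fun a b => Subtype.ext (e.injective ?_)⟩⟩, fun x hx => e.injective ?_⟩
      · show e (a.1 * b.1) = e (b.1 * a.1)
        rw [map_mul, map_mul]
        exact congrArg Subtype.val (hA.1.is_comm.comm ⟨_, a.1, a.2, rfl⟩ ⟨_, b.1, b.2, rfl⟩)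
      · rw [map_pow, map_one]
        exact hA.2 _ ⟨x, hx, rfl⟩
  refine ⟨(hel _).2 h1, h2, h3, fun A hA hEA => ?_⟩
  obtain ⟨h5, h6⟩ := h4 _ (hTc ▸ Subgroup.map_mono hA) ((hel A).1 hEA)
  rw [Subgroup.card_map_of_injective e.injective] at h5 h6
  exact ⟨h5, fun hc => Subgroup.map_injective e.injective (h6 hc)⟩

/-- The members of the class in a Sylow 2-subgroup generate its Thompson subgroup. -/
theorem model_thompson (h : ModelIso G D) (T : Sylow 2 G) :
    Subgroup.closure {x : G | x ∈ D ∧ x ∈ (T : Subgroup G)} =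
      Cfsg.thompsonSubgroupOf 2 (T : Subgroup G) := by
  obtain ⟨h1, h2, -, h4⟩ := model_sylow h T
  refine (thompsonOf_eq ((Subgroup.closure_le _).2 fun x hx => hx.2) h1 fun A hA hEA => ?_).symm
  show Nat.card A ≤ Nat.card (Subgroup.closure (D ∩ ((T : Subgroup G) : Set G))) ∧ _
  rw [h2]
  exact h4 A hA hEA

theorem model_centralizer_aux (h : ModelIso G D) {d : G} (hd : d ∈ D) (C : Subgroup G)
    (hC : ∀ x, x ∈ C ↔ x * d = d * x) (S : Sylow 2 ↥C) (A : Subgroup G)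
    (hA : A = (Cfsg.thompsonSubgroupOf 2 (S : Subgroup ↥C)).map C.subtype) :
    Cfsg.IsElementaryAbelian 2 A ∧ Nat.card A = 2 ^ 10 ∧ Set.ncard {x : G | x ∈ A ∧ IsConj d x} = 22 ∧
      ∀ x ∈ A, ∀ y ∈ A, IsConj d x → IsConj d y →
        ∃ n ∈ Subgroup.normalizer (A : Set G), n * x * n⁻¹ = y := by
  classical
  obtain ⟨e, he⟩ := h
  have h' : ModelIso G D := ⟨e, he⟩
  haveI : Fact (Nat.Prime 2) := ⟨Nat.prime_two⟩
  have hconj : ∀ x, IsConj d x ↔ x ∈ D := by
    intro x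
    rw [mem_iff_of_image e he]
    have hd' := (mem_iff_of_image e he).1 hd
    exact ⟨fun hx => IsConj.trans hd' (e.toMonoidHom.map_isConj hx), fun hx => by
      have := (IsConj.trans (IsConj.symm hd') hx : IsConj (e d) (e x))
      simpa using e.symm.toMonoidHom.map_isConj this⟩
  subst hA
  obtain ⟨T, hT⟩ := (S.isPGroup'.map C.subtype).exists_le_sylow
  have hdC : d ∈ C := (hC d).2 rfl
  have hTS : ∀ x ∈ (T : Subgroup G), ∀ hx : x ∈ C, (⟨x, hx⟩ : C) ∈ (S : Subgroup C) := by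
    intro x hxT hx
    have hp : IsPGroup 2 ((T : Subgroup G).subgroupOf C) := T.isPGroup'.comap_subtype
    have hle : (S : Subgroup C) ≤ (T : Subgroup G).subgroupOf C := fun y hy => hT ⟨y, hy, rfl⟩
    exact (S.is_maximal' hp hle).le (Subgroup.mem_subgroupOf.2 hxT)
  have hdT : d ∈ (T : Subgroup G) := by
    have h2 : d * d = 1 := by
      refine e.injective ?_
      obtain ⟨g, hg⟩ := isConj_iff.1 ((mem_iff_of_image e he).1 hd)
      rw [map_mul, map_one, ← hg]
      calc g * CosetCert.FiP.tr * g⁻¹ * (g * CosetCert.FiP.tr * g⁻¹)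
          = g * (CosetCert.FiP.tr * CosetCert.FiP.tr) * g⁻¹ := by group
        _ = 1 := by rw [CosetCert.FiP.tr_mul_self]; group
    have hp : IsPGroup 2 (Subgroup.zpowers (⟨d, hdC⟩ : C)) := by
      rintro ⟨z, k, rfl⟩
      refine ⟨1, Subtype.ext ?_⟩
      show ((⟨d, hdC⟩ : C) ^ k) ^ (2 ^ 1 : ℕ) = 1
      rw [← zpow_natCast, ← zpow_mul, mul_comm, zpow_mul, zpow_natCast, pow_one, pow_two,
        show (⟨d, hdC⟩ : C) * ⟨d, hdC⟩ = 1 from Subtype.ext h2, one_zpow]
    have hn : (Subgroup.zpowers (⟨d, hdC⟩ : C)).Normal := ⟨fun x hx g => by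
      obtain ⟨k, rfl⟩ := hx
      have hg : Commute g (⟨d, hdC⟩ : C) := Subtype.ext ((hC _).1 g.2)
      show g * (⟨d, hdC⟩ : C) ^ k * g⁻¹ ∈ _
      rw [(hg.zpow_right k).eq, mul_inv_cancel_right]
      exact ⟨k, rfl⟩⟩
    exact hT ⟨_, hp.le_sylow_of_normal S (Subgroup.mem_zpowers _), rfl⟩
  obtain ⟨h1, h2, h3, h4⟩ := model_sylow h' T
  set E := Subgroup.closure (D ∩ ((T : Subgroup G) : Set G)) with hE
  have hET : E ≤ (T : Subgroup G) := (Subgroup.closure_le _).2 fun x hx => hx.2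
  have hdE : d ∈ E := Subgroup.subset_closure ⟨hd, hdT⟩
  have hEC : E ≤ C := fun x hx => (hC x).2
    (congrArg Subtype.val (h1.1.is_comm.comm ⟨x, hx⟩ ⟨d, hdE⟩) :)
  have hA' : (Cfsg.thompsonSubgroupOf 2 (S : Subgroup C)).map C.subtype = E := by
    have hJ : Cfsg.thompsonSubgroupOf 2 (S : Subgroup C) = E.subgroupOf C := by
      refine thompsonOf_eq (fun x hx => hTS _ (hET hx) x.2)
        ⟨⟨⟨fun a b => Subtype.ext (Subtype.ext (congrArg Subtype.val
          (h1.1.is_comm.comm ⟨_, a.2⟩ ⟨_, b.2⟩) :))⟩⟩, fun a ha => Subtype.ext (h1.2 _ ha)⟩ ?_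
      intro B hB hEB
      have hBm : B.map C.subtype ≤ (T : Subgroup G) := (Subgroup.map_mono hB).trans hT
      have hel : Cfsg.IsElementaryAbelian 2 (B.map C.subtype) := by
        refine ⟨⟨⟨?_⟩⟩, ?_⟩
        · rintro ⟨_, x, hx, rfl⟩ ⟨_, y, hy, rfl⟩
          exact Subtype.ext (congrArg (fun z : B => ((z : C) : G)) (hEB.1.is_comm.comm ⟨x, hx⟩ ⟨y, hy⟩) :)
        · rintro _ ⟨x, hx, rfl⟩
          rw [← map_pow, hEB.2 x hx, map_one]
      obtain ⟨a1, a2⟩ := h4 _ hBm hel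
      rw [Subgroup.card_map_of_injective C.subtype_injective] at a1 a2
      rw [Nat.card_congr (Subgroup.subgroupOfEquivOfLe hEC).toEquiv, h2]
      refine ⟨a1, fun hc => Subgroup.map_injective C.subtype_injective ?_⟩
      rw [Subgroup.subgroupOf_map_subtype, inf_eq_left.2 hEC]
      exact a2 hc
    rw [hJ, Subgroup.subgroupOf_map_subtype, inf_eq_left.2 hEC]
  rw [hA']
  refine ⟨h1, h2, ?_, ?_⟩
  · have hset : {x : G | x ∈ E ∧ IsConj d x} = D ∩ ((T : Subgroup G) : Set G) := Set.ext fun x =>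
      ⟨fun hx => ⟨(hconj x).1 hx.2, hET hx.1⟩, fun hx => ⟨Subgroup.subset_closure hx, (hconj x).2 hx.1⟩⟩
    rw [hset, h3]
  intro x hx y hy hxd hyd
  obtain ⟨g, hg⟩ := isConj_iff.1 (IsConj.trans (IsConj.symm hxd) hyd)
  -- both `E` and its conjugate lie in Sylow subgroups of the centralizer of `y`
  set E' := E.map (MulAut.conj g).toMonoidHom with hE'
  have hyE' : y ∈ E' := ⟨x, hx, hg⟩
  have hle : ∀ F : Subgroup G, Cfsg.IsElementaryAbelian 2 F → y ∈ F →
      F ≤ Subgroup.centralizer ({y} : Set G) := fun F hF hyF z hz =>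
    Subgroup.mem_centralizer_singleton_iff.2
      (congrArg Subtype.val (hF.1.is_comm.comm ⟨z, hz⟩ ⟨y, hyF⟩) :)
  have hE'el : Cfsg.IsElementaryAbelian 2 E' := by
    refine ⟨⟨⟨?_⟩⟩, ?_⟩
    · rintro ⟨_, p, hp, rfl⟩ ⟨_, q, hq, rfl⟩
      exact Subtype.ext (by
        show MulAut.conj g p * MulAut.conj g q = MulAut.conj g q * MulAut.conj g p
        rw [← map_mul, ← map_mul]
        exact congrArg (MulAut.conj g) (congrArg Subtype.val (h1.1.is_comm.comm ⟨p, hp⟩ ⟨q, hq⟩) :))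
    · rintro _ ⟨p, hp, rfl⟩
      rw [← map_pow, h1.2 p hp, map_one]
  set Cy := Subgroup.centralizer ({y} : Set G) with hCy
  have hpg : ∀ F : Subgroup G, Cfsg.IsElementaryAbelian 2 F → IsPGroup 2 (F.subgroupOf Cy) :=
    fun F hF => fun a => ⟨1, Subtype.ext (Subtype.ext (hF.2 _ a.2))⟩
  obtain ⟨P, hP⟩ := (hpg E h1).exists_le_sylow
  obtain ⟨P', hP'⟩ := (hpg E' hE'el).exists_le_sylow
  obtain ⟨c, hc⟩ := MulAction.exists_smul_eq Cy P' P
  obtain ⟨Q, hQ⟩ := (P.isPGroup'.map Cy.subtype).exists_le_sylow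
  set m : G := (c : G) * g with hm
  have hEQ : E ≤ (Q : Subgroup G) := fun z hz =>
    hQ ⟨⟨z, hle E h1 hy hz⟩, hP (Subgroup.mem_subgroupOf.2 hz), rfl⟩
  have hmQ : E.map (MulAut.conj m).toMonoidHom ≤ (Q : Subgroup G) := by
    rintro _ ⟨z, hz, rfl⟩
    have hz' : MulAut.conj g z ∈ E' := ⟨z, hz, rfl⟩
    have hzC := hle E' hE'el hyE' hz'
    have h5 : c * ⟨_, hzC⟩ * c⁻¹ ∈ (P : Subgroup Cy) := by
      rw [← hc]
      exact ⟨⟨_, hzC⟩, hP' (Subgroup.mem_subgroupOf.2 hz'), rfl⟩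
    refine hQ ⟨_, h5, ?_⟩
    simp [hm, mul_assoc]
  obtain ⟨-, -, -, hQ4⟩ := model_sylow h' Q
  have hcm : Nat.card (E.map (MulAut.conj m).toMonoidHom) = 2 ^ 10 := by
    rw [Subgroup.card_map_of_injective (MulAut.conj m).injective, h2]
  have hmel : Cfsg.IsElementaryAbelian 2 (E.map (MulAut.conj m).toMonoidHom) := by
    refine ⟨⟨⟨?_⟩⟩, ?_⟩
    · rintro ⟨_, p, hp, rfl⟩ ⟨_, q, hq, rfl⟩
      exact Subtype.ext (by
        show MulAut.conj m p * MulAut.conj m q = MulAut.conj m q * MulAut.conj m p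
        rw [← map_mul, ← map_mul]
        exact congrArg (MulAut.conj m) (congrArg Subtype.val (h1.1.is_comm.comm ⟨p, hp⟩ ⟨q, hq⟩) :))
    · rintro _ ⟨p, hp, rfl⟩
      rw [← map_pow, h1.2 p hp, map_one]
  have hfix : E.map (MulAut.conj m).toMonoidHom = E :=
    ((hQ4 _ hmQ hmel).2 hcm).trans ((hQ4 E hEQ h1).2 h2).symm
  refine ⟨m, Subgroup.mem_set_normalizer_iff.2 fun z => ⟨fun hz => ?_, fun hz => ?_⟩, ?_⟩
  · show m * z * m⁻¹ ∈ E
    rw [← hfix]
    exact ⟨z, hz, rfl⟩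
  · rw [SetLike.mem_coe, ← hfix] at hz
    obtain ⟨u, hu, e'⟩ := hz
    have : u = z := (MulAut.conj m).injective e'
    exact this ▸ hu
  · have hcy : (c : G) * y = y * (c : G) := Subgroup.mem_centralizer_singleton_iff.1 c.2
    calc m * x * m⁻¹ = (c : G) * (g * x * g⁻¹) * (c : G)⁻¹ := by rw [hm]; group
      _ = y := by rw [hg, hcy, mul_inv_cancel_right]

/-- The Thompson subgroup of a Sylow 2-subgroup of the centralizer of a transposition. -/
theorem model_centralizer (h : ModelIso G D) {d : G} (hd : d ∈ D)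
    (S : Sylow 2 ↥(Subgroup.centralizer ({d} : Set G))) (A : Subgroup G)
    (hA : A = (Cfsg.thompsonSubgroupOf 2 (S : Subgroup ↥(Subgroup.centralizer ({d} : Set G)))).map
      (Subgroup.centralizer ({d} : Set G)).subtype) :
    Cfsg.IsElementaryAbelian 2 A ∧ Nat.card A = 2 ^ 10 ∧ Set.ncard {x : G | x ∈ A ∧ IsConj d x} = 22 ∧
      ∀ x ∈ A, ∀ y ∈ A, IsConj d x → IsConj d y →
        ∃ n ∈ Subgroup.normalizer (A : Set G), n * x * n⁻¹ = y :=
  model_centralizer_aux h hd _ (fun _ => Subgroup.mem_centralizer_singleton_iff) S A hA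

end CfsgLib.Sporadic.FiTransfer.Thompson
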