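import Cfsg.Agent.Lib.Sporadic.FiTransfer.Thompson.Checks
import Cfsg.Agent.Lib.Sporadic.Fi23SylowTwo.Main
import Cfsg.Agent.Lib.Sporadic.FiTransfer23.Width

/-!
# The Sylow 2-subgroups of Fi23: transpositions and squares

A Sylow 2-subgroup contains exactly the twenty-three transpositions of a frame; they generate its only
elementary abelian subgroup of largest order, and none of them is a square.
-/

set_option autoImplicit false
set_option maxRecDepth 100000

open Cfsg.Spor

namespace CfsgLib.Sporadic.FiTransfer.Thompson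

open CosetCert CosetCert.Fi23P
open FiTransfer23 (classTr classTr_conj frameSet frameSet_subset frameSet_card frameSet_comm)
open OutFi (dp_injective)

attribute [local irreducible] PTab.img Fi23Data.forestH Forest.cls

theorem d_mem_eSub {i : ℕ} (hi : i < 23) : Two.d i ∈ Two.eSub :=
  Two.mem_eSub.2 ⟨_, Two.coord_lt hi, Two.d_coord hi⟩

theorem eSub_eq : Two.eSub = Subgroup.closure frameSet := by
  refine le_antisymm (fun g hg => ?_) ((Subgroup.closure_le _).2 ?_)
  · obtain ⟨v, -, rfl⟩ := Two.mem_eSub.1 hg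
    rw [Two.e_eq_ev]
    suffices ∀ n ≤ 11, Two.ev n v ∈ Subgroup.closure frameSet from this 11 le_rfl
    intro n
    induction n with
    | zero =>
      intro _
      show (1 : Fi23) ∈ _
      exact one_mem _
    | succ n ih =>
      intro hn
      rw [Two.ev_succ]
      refine mul_mem ?_ (ih (by omega))
      rw [Two.bterm]
      split
      · exact Subgroup.subset_closure ⟨_, Two.basis_lt (by omega), rfl⟩
      · exact one_mem _
  · rintro _ ⟨i, hi, rfl⟩
    exact d_mem_eSub hi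

theorem syl_isPGroup : IsPGroup 2 Two.syl := IsPGroup.of_card Two.card_syl

/-- The transpositions of the listed Sylow subgroup are those of the frame. -/
theorem inter_syl : classTr ∩ (Two.syl : Set Fi23) = frameSet := by
  refine Set.Subset.antisymm ?_ fun x hx => ⟨frameSet_subset hx, ?_⟩
  · rintro x ⟨hx, hxT⟩
    have hxc := hx
    rw [ThreeTransp.TypeTwentyFour.Model.class_eq] at hx
    obtain ⟨u, rfl⟩ := hx
    obtain ⟨i, hi, rfl⟩ := FiTransfer23.FrameMax.frame_max (u := u) fun i hi => dp_injective (by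
      have hc := ThreeTransp.SylowWidth.commute_of_two_group FiTransfer23.isThreeTranspositionSet
        syl_isPGroup (frameSet_subset ⟨i, hi, rfl⟩) hxc (Two.eSub_le (d_mem_eSub hi)) hxT
      rw [← Two.conj_dp, hc.eq, mul_inv_cancel_right])
    exact ⟨i, hi, Two.d_eq hi⟩
  · obtain ⟨i, hi, rfl⟩ := hx
    exact Two.eSub_le (d_mem_eSub hi)

theorem syl_sq {x : Fi23} (hx : x ∈ Two.syl) {i : ℕ} (hi : i < 23) : x * x ≠ Two.d i := by
  intro e
  obtain ⟨v, a, hv, ha, rfl⟩ := Two.mem_syl.1 hx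
  have hp := Two.hasPerm_eU v ha
  have h0 : Two.HasPerm (Two.d i) 0 := by
    rw [Two.d_coord hi, ← mul_one (Two.e _), ← Two.U_zero]
    exact Two.hasPerm_eU _ (by norm_num)
  have haa : Two.mulAt a a = 0 := Two.hasPerm_unique (Two.hasPerm_mul hp hp) (e ▸ h0)
  rcases eq_or_ne a 0 with rfl | hne
  · rw [Two.U_zero, mul_one, Two.e_sq, Two.d_eq hi] at e
    exact OutFi.dp_ne_one _ e.symm
  obtain ⟨s, hs, hsa⟩ := List.mem_iff_getElem.1 (Two.invList_of ha hne haa)
  have hs35 : s < 35 := invLen_ok ▸ hs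
  have hget : Two.invList.getD s 0 = a := by rw [List.getD_eq_getElem _ _ hs, hsa]
  have h1 := List.all_eq_true.1 sqVal_ok s (List.mem_range.2 hs35)
  rw [hget] at h1
  have hU : Two.U a * Two.U a = Two.e (sqVec.getD s 0) := by
    have := Two.eq_of_sameK (fun y hy => (List.mem_append.1 hy).elim (Two.upWord_lt a y) (Two.upWord_lt a y))
      (Two.vecWord_lt _) h1
    rwa [Two.el_append] at this
  have hsq : Two.e v * Two.U a * (Two.e v * Two.U a) =
      Two.e (v ^^^ Two.actV a v ^^^ sqVec.getD s 0) := by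
    rw [Two.e_xor, Two.e_xor, ← hU, ← Two.conj_e ha]
    group
  rw [e, Two.d_coord hi] at hsq
  have hlt : v ^^^ Two.actV a v ^^^ sqVec.getD s 0 < 2048 := Nat.xor_lt_two_pow (n := 11)
    (Nat.xor_lt_two_pow hv (Two.actV_lt ha v)) ((show ∀ t < 35, sqVec.getD t 0 < 2 ^ 11 by decide) s hs35)
  have heq := Two.e_inj (Two.coord_lt hi) hlt hsq
  have h2 := List.all_eq_true.1 (List.all_eq_true.1 sqAvoid_ok s (List.mem_range.2 hs35)) v
    (List.mem_range.2 hv)
  rw [hget, Bool.not_eq_true', ← Bool.not_eq_true, List.contains_iff_mem] at h2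
  refine h2 ?_
  show v ^^^ Two.actV a v ^^^ sqVec.getD s 0 ∈ _
  rw [← heq, List.getD_eq_getElem _ _ (show i < Two.coords.length from hi)]
  exact List.getElem_mem _

/-- Every Sylow 2-subgroup is a conjugate of the listed one. -/
theorem exists_conj (T : Sylow 2 Fi23) : ∃ g : Fi23, (T : Subgroup Fi23) = Two.syl.map (MulAut.conj g).toMonoidHom := by
  haveI := CosetCert.Fi23P.finite
  haveI : Fact (Nat.Prime 2) := ⟨Nat.prime_two⟩
  have hidx : ¬ 2 ∣ Two.syl.index := by
    have h := Two.syl.card_mul_index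
    rw [Two.card_syl, card_eq.1] at h
    have h' : Two.syl.index = 4089470473293004800 / 2 ^ 18 := by
      rw [← h, Nat.mul_div_cancel_left _ (by norm_num)]
    rw [h']
    norm_num
  obtain ⟨g, hg⟩ := MulAction.exists_smul_eq Fi23 (syl_isPGroup.toSylow hidx) T
  exact ⟨g, by rw [← hg]; rfl⟩

theorem class_conj_iff (g x : Fi23) : g * x * g⁻¹ ∈ classTr ↔ x ∈ classTr := by
  refine ⟨fun h => ?_, classTr_conj⟩
  have := classTr_conj (g := g⁻¹) h
  rwa [show g⁻¹ * (g * x * g⁻¹) * g⁻¹⁻¹ = x by group] at this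

theorem inter_eq {T : Sylow 2 Fi23} {g : Fi23}
    (hg : (T : Subgroup Fi23) = Two.syl.map (MulAut.conj g).toMonoidHom) :
    classTr ∩ ((T : Subgroup Fi23) : Set Fi23) = MulAut.conj g '' frameSet := by
  rw [← inter_syl, hg, Subgroup.coe_map]
  ext y
  constructor
  · rintro ⟨hy, x, hx, rfl⟩
    exact ⟨x, ⟨(class_conj_iff g x).1 hy, hx⟩, rfl⟩
  · rintro ⟨x, ⟨hx, hx'⟩, rfl⟩
    exact ⟨(class_conj_iff g x).2 hx, x, hx', rfl⟩

/-- No transposition is a square. -/
theorem not_square (x : Fi23) : x * x ∉ classTr := by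
  intro hx
  haveI := CosetCert.Fi23P.finite
  haveI : Fact (Nat.Prime 2) := ⟨Nat.prime_two⟩
  have h4 : x ^ 2 ^ 2 = 1 := by
    have h2 : (x * x) ^ 2 = 1 := by
      rw [← FiTransfer23.isThreeTranspositionSet.1 _ hx]
      exact pow_orderOf_eq_one _
    rwa [← pow_two, ← pow_mul] at h2
  obtain ⟨k, -, hk⟩ := (Nat.dvd_prime_pow Nat.prime_two).1 (orderOf_dvd_of_pow_eq_one h4)
  obtain ⟨T, hT⟩ := (IsPGroup.of_card (p := 2) (n := k)
    ((Nat.card_zpowers x).trans hk)).exists_le_sylow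
  obtain ⟨g, hg⟩ := exists_conj T
  have hxT : x ∈ (T : Subgroup Fi23) := hT (Subgroup.mem_zpowers x)
  rw [hg, Subgroup.mem_map] at hxT
  obtain ⟨y, hy, rfl⟩ := hxT
  have hyy : y * y ∈ classTr ∩ (Two.syl : Set Fi23) :=
    ⟨(class_conj_iff g _).1 (by simpa [mul_assoc] using hx), mul_mem hy hy⟩
  rw [inter_syl] at hyy
  obtain ⟨i, hi, e⟩ := hyy
  exact syl_sq hy hi e.symm

/-- In a Sylow 2-subgroup the product of two transpositions is no transposition. -/
theorem mul_not_mem {T : Sylow 2 Fi23} {a b : Fi23} (ha : a ∈ classTr) (hb : b ∈ classTr)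
    (haT : a ∈ (T : Subgroup Fi23)) (hbT : b ∈ (T : Subgroup Fi23)) : a * b ∉ classTr := by
  intro hc
  obtain ⟨g, hg⟩ := exists_conj T
  have hab : a * b ∈ classTr ∩ ((T : Subgroup Fi23) : Set Fi23) := ⟨hc, mul_mem haT hbT⟩
  have ha' : a ∈ classTr ∩ ((T : Subgroup Fi23) : Set Fi23) := ⟨ha, haT⟩
  have hb' : b ∈ classTr ∩ ((T : Subgroup Fi23) : Set Fi23) := ⟨hb, hbT⟩
  rw [inter_eq hg] at hab ha' hb'
  obtain ⟨_, ⟨i, hi, rfl⟩, rfl⟩ := ha'
  obtain ⟨_, ⟨j, hj, rfl⟩, rfl⟩ := hb'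
  obtain ⟨_, ⟨l, hl, rfl⟩, e⟩ := hab
  rw [← map_mul] at e
  have e' := (MulAut.conj g).injective e
  rw [Two.d_coord hi, Two.d_coord hj, Two.d_coord hl, ← Two.e_xor] at e'
  have heq := Two.e_inj (Two.coord_lt hl) (Nat.xor_lt_two_pow (n := 11) (Two.coord_lt hi) (Two.coord_lt hj)) e'
  have h2 := List.all_eq_true.1 (List.all_eq_true.1 triple_ok i (List.mem_range.2 hi)) j
    (List.mem_range.2 hj)
  rw [Bool.not_eq_true', ← Bool.not_eq_true, List.contains_iff_mem] at h2
  refine h2 ?_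
  show Two.coords.getD i 0 ^^^ Two.coords.getD j 0 ∈ _
  rw [← heq, List.getD_eq_getElem _ _ (show l < Two.coords.length from hl)]
  exact List.getElem_mem _

/-- The transpositions of a Sylow 2-subgroup generate its largest elementary abelian subgroup. -/
theorem sylow_max (T : Sylow 2 Fi23) {A : Subgroup Fi23} (hA : A ≤ T) (hEA : Cfsg.IsElementaryAbelian 2 A) :
    Nat.card A ≤ 2 ^ 11 ∧
      (Nat.card A = 2 ^ 11 → A = Subgroup.closure (classTr ∩ ((T : Subgroup Fi23) : Set Fi23))) := by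
  obtain ⟨g, hg⟩ := exists_conj T
  set A' := A.map (MulAut.conj g⁻¹).toMonoidHom with hA'
  have hle : A' ≤ Two.syl := by
    rintro _ ⟨a, ha, rfl⟩
    obtain ⟨x, hx, e⟩ := Subgroup.mem_map.1 (hg ▸ hA ha : a ∈ Two.syl.map _)
    subst e
    simpa [mul_assoc] using hx
  have hEA' : Cfsg.IsElementaryAbelian 2 A' := by
    refine ⟨⟨⟨?_⟩⟩, ?_⟩
    · rintro ⟨_, x, hx, rfl⟩ ⟨_, y, hy, rfl⟩
      obtain ⟨⟨hc⟩⟩ := hEA.1
      exact Subtype.ext (by
        show _ * _ = _ * _
        rw [← map_mul, ← map_mul]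
        exact congrArg _ (congrArg Subtype.val (hc ⟨x, hx⟩ ⟨y, hy⟩)))
    · rintro _ ⟨x, hx, rfl⟩
      rw [← map_pow, hEA.2 x hx, map_one]
  obtain ⟨h1, h2⟩ := Two.card_le hle hEA'
  rw [hA', Subgroup.card_map_of_injective (MulAut.conj g⁻¹).injective] at h1 h2
  refine ⟨h1, fun he => ?_⟩
  have h3 : (A.map (MulAut.conj g⁻¹).toMonoidHom).map (MulAut.conj g).toMonoidHom
      = Two.eSub.map (MulAut.conj g).toMonoidHom := by rw [h2 he]
  rw [Subgroup.map_map, show (MulAut.conj g).toMonoidHom.comp (MulAut.conj g⁻¹).toMonoidHom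
      = MonoidHom.id Fi23 from MonoidHom.ext fun x => by simp [mul_assoc], Subgroup.map_id, eSub_eq,
    MonoidHom.map_closure] at h3
  rw [h3, inter_eq hg]
  rfl

/-- The facts on the elementary abelian subgroup of the transpositions of a Sylow 2-subgroup. -/
theorem sylow_frame (T : Sylow 2 Fi23) :
    Nat.card (Subgroup.closure (classTr ∩ ((T : Subgroup Fi23) : Set Fi23))) = 2 ^ 11 ∧
      (classTr ∩ ((T : Subgroup Fi23) : Set Fi23)).ncard = 23 := by
  obtain ⟨g, hg⟩ := exists_conj T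
  rw [inter_eq hg, Set.ncard_image_of_injective _ (MulAut.conj g).injective, frameSet_card]
  refine ⟨?_, rfl⟩
  rw [show MulAut.conj g '' frameSet = (MulAut.conj g).toMonoidHom '' frameSet from rfl,
    ← MonoidHom.map_closure, ← eSub_eq, Subgroup.card_map_of_injective (MulAut.conj g).injective,
    Two.card_eSub]
  norm_num

end CfsgLib.Sporadic.FiTransfer.Thompson
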